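import Groth.Prelude.Def_EtBase
import Groth.Agent.Lib.EtSite.RepCharts
import Groth.Agent.Lib.EtSite.SmallSubcanonical
import Groth.Agent.Lib.CechPsh.ShortExact
import Groth.Agent.Lib.EtJ.PullSec
import Mathlib.Algebra.Category.Grp.EpiMono
import Mathlib.Algebra.Homology.DerivedCategory.Ext.EnoughInjectives
import Mathlib.Algebra.Homology.DerivedCategory.Ext.ExactSequences
import Mathlib.CategoryTheory.Sites.LocallyBijective

/-!
# Degree one classes with finite locally constant coefficients are killed by finite étale covers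
-/

set_option autoImplicit false
set_option linter.style.haveILetI false
set_option backward.isDefEq.respectTransparency false

universe u

open CategoryTheory CategoryTheory.Limits CategoryTheory.Abelian AlgebraicGeometry Opposite

noncomputable section

namespace Groth.Agent.Lib.SepClosedSplit.H1Cover

open Groth.Agent.Lib.EtSite Groth.Agent.Lib.EtSite.Basic

variable {Z : Scheme.{u}}

/-- The map to the final object. -/
abbrev toTop (V : Z.Etale) : V ⟶ EtCoh.top Z :=
  MorphismProperty.Over.homMk V.hom (Category.comp_id _)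

theorem comp_toTop {U V : Z.Etale} (f : V ⟶ U) : f ≫ toTop U = toTop V :=
  MorphismProperty.Over.Hom.ext (MorphismProperty.Over.w f)

variable {I Q : EtCoh.Ab Z} (π : I ⟶ Q) (e : EtCoh.sect Q (EtCoh.top Z))

theorem map_e {U V : Z.Etale} (f : V ⟶ U) :
    Q.obj.map f.op (Q.obj.map (toTop U).op e) = Q.obj.map (toTop V).op e := by
  rw [← ConcreteCategory.comp_apply, ← Functor.map_comp, ← op_comp, comp_toTop]

/-- Preimages of a global section. -/
def preim : Z.Etaleᵒᵖ ⥤ Type (u + 1) where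
  obj U := {x : I.obj.obj U // π.hom.app U x = Q.obj.map (toTop U.unop).op e}
  map f := TypeCat.ofHom fun x => ⟨I.obj.map f x.1, by
    rw [NatTrans.naturality_apply π.hom f x.1, x.2]; exact map_e e f.unop⟩
  map_id U := by
    ext x
    show I.obj.map (𝟙 U) x.1 = x.1
    rw [I.obj.map_id]
    rfl
  map_comp f g := by
    ext x
    show I.obj.map (f ≫ g) x.1 = I.obj.map g (I.obj.map f x.1)
    rw [I.obj.map_comp]
    rfl

theorem isSheaf_ab (F : EtCoh.Ab Z) :
    Presieve.IsSheaf Z.smallEtaleTopology (F.obj ⋙ forget AddCommGrpCat.{u + 1}) :=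
  (isSheaf_iff_isSheaf_of_type _ _).1
    ((Presheaf.isSheaf_iff_isSheaf_forget _ _ (forget AddCommGrpCat.{u + 1})).1 F.property)

theorem preim_isSheaf : Presieve.IsSheaf Z.smallEtaleTopology (preim π e) := by
  intro U S hS x hx
  let y : Presieve.FamilyOfElements (I.obj ⋙ forget AddCommGrpCat.{u + 1}) (S : Presieve U) :=
    fun V f hf => (x f hf).1
  have hy : y.Compatible := fun Y₁ Y₂ V g₁ g₂ f₁ f₂ h₁ h₂ he =>
    congrArg Subtype.val (hx g₁ g₂ h₁ h₂ he)
  obtain ⟨t, ht, htu⟩ := isSheaf_ab I S hS y hy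
  have hts : π.hom.app (op U) t = Q.obj.map (toTop U).op e := by
    refine ((isSheaf_ab Q) S hS).isSeparatedFor.ext fun V f hf => ?_
    change Q.obj.map f.op _ = Q.obj.map f.op _
    rw [← NatTrans.naturality_apply π.hom f.op t, map_e]
    have : I.obj.map f.op t = (x f hf).1 := ht f hf
    rw [this]
    exact (x f hf).2
  exact ⟨⟨t, hts⟩, fun V f hf => Subtype.ext (ht f hf),
    fun t' ht' => Subtype.ext (htu t'.1 fun V f hf => congrArg Subtype.val (ht' f hf))⟩

/-- A global section of the quotient by a finite locally constant sheaf lifts on a finite étale cover. -/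
theorem exists_cover_lift {S : ShortComplex (EtCoh.Ab Z)} (hS : S.ShortExact)
    (hF : EtCoh.IsFiniteLocallyConstant S.X₁) (e : EtCoh.sect S.X₃ (EtCoh.top Z)) :
    ∃ (U : Z.Etale) (_ : IsFinite U.hom) (_ : Surjective U.hom) (p : EtCoh.sect S.X₂ U),
      S.g.hom.app (op U) p = S.X₃.obj.map (toTop U).op e := by
  let J := Z.smallEtaleTopology
  let F' : EtDesc.Sh Z := ⟨preim S.g e, (isSheaf_iff_isSheaf_of_type _ _).2 (preim_isSheaf S.g e)⟩
  have hle := fun U => CechPsh.ShortExact.app_left_exact hS (W := op U)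
  have hloc : ∀ z : Z, ∃ (V : Z.Etale) (_ : ∃ v : V.left, V.hom.base v = z) (i : hF.choose) (g : V ⟶ hF.choose_spec.choose i),
      Nonempty (EtDesc.sect F' V) := by
    intro z
    obtain ⟨i, v, hv⟩ := hF.choose_spec.choose_spec.1 z
    haveI : Epi S.g := hS.epi_g
    haveI : Sheaf.IsLocallySurjective S.g := (Sheaf.isLocallySurjective_iff_epi' _ _).2 inferInstance
    let W := hF.choose_spec.choose i
    have hmem : Presheaf.imageSieve S.g.hom (S.X₃.obj.map (toTop W).op e) ∈ J W :=
      Presheaf.imageSieve_mem J S.g.hom _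
    obtain ⟨V, g, ⟨s, hs⟩, t, ht⟩ := (mem_topology_iff _).1 hmem v
    refine ⟨V, ⟨t, ?_⟩, i, g, ⟨⟨s, hs.trans (map_e e g)⟩⟩⟩
    exact (congrArg (fun m => m.base t) (MorphismProperty.Over.w g)).symm.trans
      ((congrArg W.hom.base ht).trans hv)
  have key : ∀ z : Z, ∃ (U : Z.Etale) (_ : ∃ v : U.left, U.hom.base v = z) (n : ℕ)
      (ψ : ULift.{u + 1} (Fin n) → EtDesc.sect F' U), RepCharts.IsChart F' U ψ := by
    intro z
    obtain ⟨V, hV, i, g, ⟨s⟩⟩ := hloc z
    obtain ⟨M, _, _, ⟨α⟩⟩ := hF.choose_spec.choose_spec.2 i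
    let Wi := hF.choose_spec.choose i
    let N := AddCommGrpCat.of (ULift.{u + 1} M)
    let η₀ : (Functor.const (Over Wi)ᵒᵖ).obj N ⟶
        ((constantSheaf (J.over Wi) AddCommGrpCat.{u + 1}).obj N).obj :=
      toSheafify (J.over Wi) ((Functor.const _).obj N)
    let η := η₀ ≫ α.inv.hom
    haveI : IsIso α.inv.hom := inferInstanceAs (IsIso ((sheafToPresheaf _ _).map α.inv))
    have i1 : Sheaf.IsLocallyInjective α.inv := inferInstance
    have i2 : Sheaf.IsLocallySurjective α.inv := inferInstance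
    have h7 : Presheaf.IsLocallyInjective (J.over Wi) α.inv.hom := i1
    have h8 : Presheaf.IsLocallySurjective (J.over Wi) α.inv.hom := i2
    have h1 : Presheaf.IsLocallyInjective (J.over Wi) η₀ :=
      inferInstanceAs (Presheaf.IsLocallyInjective (J.over Wi) (toSheafify (J.over Wi) _))
    have h2 : Presheaf.IsLocallySurjective (J.over Wi) η₀ :=
      inferInstanceAs (Presheaf.IsLocallySurjective (J.over Wi) (toSheafify (J.over Wi) _))
    have hi : Presheaf.IsLocallyInjective (J.over Wi) η := Presheaf.isLocallyInjective_comp _ η₀ α.inv.hom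
    have hj : Presheaf.IsLocallySurjective (J.over Wi) η := Presheaf.isLocallySurjective_comp _ η₀ α.inv.hom
    let c : ∀ {W : Z.Etale}, (W ⟶ V) → ULift.{u + 1} M → S.X₁.obj.obj (op W) := fun {W} f m =>
      η.app (op (Over.mk (f ≫ g))) m
    have map_c : ∀ {W W' : Z.Etale} (k : W' ⟶ W) (f : W ⟶ V) m,
        S.X₁.obj.map k.op (c f m) = c (k ≫ f) m := fun {W W'} k f m =>
      (η.naturality_apply (Over.homMk k (Category.assoc _ _ _).symm :
        Over.mk ((k ≫ f) ≫ g) ⟶ Over.mk (f ≫ g)).op m).symm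
    let I_add : ∀ {W : Z.Etale}, (W ⟶ V) → ULift.{u + 1} M → S.X₂.obj.obj (op W) := fun {W} f m =>
      S.X₂.obj.map f.op s.1 + S.f.hom.app (op W) (c f m)
    have I_add_mem : ∀ {W : Z.Etale} (f : W ⟶ V) m,
        S.g.hom.app (op W) (I_add f m) = S.X₃.obj.map (toTop W).op e := fun {W} f m => by
      change S.g.hom.app (op W) (_ + _) = _
      rw [map_add, (hle W).2.1, add_zero, NatTrans.naturality_apply S.g.hom f.op s.1, s.2]
      exact map_e e f
    have map_I_add : ∀ {W W' : Z.Etale} (k : W' ⟶ W) (f : W ⟶ V) m,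
        S.X₂.obj.map k.op (I_add f m) = I_add (k ≫ f) m := fun {W W'} k f m => by
      change S.X₂.obj.map k.op (_ + _) = _
      rw [map_add, ← ConcreteCategory.comp_apply, ← Functor.map_comp, ← op_comp,
        ← NatTrans.naturality_apply S.f.hom k.op, map_c]
    let τ : (Functor.const (Over V)ᵒᵖ).obj (ULift.{u + 1} M) ⟶ (Over.forget V).op ⋙ F'.obj :=
      { app := fun W => TypeCat.ofHom fun m => (⟨I_add W.unop.hom m, I_add_mem W.unop.hom m⟩ :
          {x : S.X₂.obj.obj (op W.unop.left) // S.g.hom.app _ x = S.X₃.obj.map (toTop W.unop.left).op e})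
        naturality := fun W W' g => by
          ext m
          refine Subtype.ext ?_
          change I_add W'.unop.hom m = S.X₂.obj.map g.unop.left.op (I_add W.unop.hom m)
          rw [map_I_add]
          exact congrArg (fun k => I_add k m) (Over.w g.unop).symm }
    have hinj : Presheaf.IsLocallyInjective (J.over V) τ := ⟨fun {W} a b hab => by
      rw [GrothendieckTopology.mem_over_iff]
      have h' : c W.unop.hom a = c W.unop.hom b :=
        (hle W.unop.left).1 (add_left_cancel (congrArg Subtype.val hab))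
      have hS' := (GrothendieckTopology.mem_over_iff _ _).1
        (Presheaf.equalizerSieve_mem (J.over Wi) η (X := op (Over.mk (W.unop.hom ≫ g))) a b h')
      refine J.superset_covering ?_ hS'
      intro Y k hk
      exact (Sieve.overEquiv_iff _ _).2 (show a = b from (Sieve.overEquiv_iff _ _).1 hk)⟩
    have hsurj : Presheaf.IsLocallySurjective (J.over V) τ := ⟨fun {W} p => by
      rw [GrothendieckTopology.mem_over_iff]
      let p' : {x : S.X₂.obj.obj (op W.left) // S.g.hom.app _ x = S.X₃.obj.map (toTop W.left).op e} := p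
      obtain ⟨a, ha⟩ := (hle W.left).2.2 (p'.1 - S.X₂.obj.map W.hom.op s.1) (by
        rw [map_sub, p'.2, NatTrans.naturality_apply S.g.hom W.hom.op s.1, s.2, map_e e W.hom, sub_self])
      have hS' := (GrothendieckTopology.mem_over_iff _ _).1
        (Presheaf.imageSieve_mem (J.over Wi) η (U := op (Over.mk (W.hom ≫ g))) a)
      refine J.superset_covering ?_ hS'
      intro Y k hk
      obtain ⟨m, hm⟩ := (Sieve.overEquiv_iff _ _).1 hk
      refine (Sieve.overEquiv_iff _ _).2 ⟨m, Subtype.ext ?_⟩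
      change I_add (k ≫ W.hom) m = S.X₂.obj.map k.op p'.1
      have hck : c (k ≫ W.hom) m = S.X₁.obj.map k.op a := by
        have e1 : c (k ≫ W.hom) m = η.app (op (Over.mk (k ≫ W.hom ≫ g))) m :=
          (η.naturality_apply (Over.homMk (𝟙 Y) ((Category.id_comp _).trans (Category.assoc _ _ _)) :
            Over.mk (k ≫ W.hom ≫ g) ⟶ Over.mk ((k ≫ W.hom) ≫ g)).op m).trans
            (ConcreteCategory.congr_hom (S.X₁.obj.map_id _) _) |>.symm
        exact e1.trans hm
      rw [sub_eq_iff_eq_add.1 ha.symm, map_add, ← NatTrans.naturality_apply S.f.hom k.op a, ← hck,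
        ← ConcreteCategory.comp_apply (S.X₂.obj.map W.hom.op), ← Functor.map_comp, ← op_comp, add_comm]⟩
    obtain ⟨ψ, hψ⟩ := @RepCharts.exists_isChart _ F' V _ τ hinj hsurj
    obtain ⟨n, ψ', hψ'⟩ := hψ.exists_fin
    exact ⟨V, hV, n, ψ', hψ'⟩
  obtain ⟨U, hU, ⟨ε⟩⟩ := RepCharts.exists_repSh_iso_of_charts F' key
  have hsh : Presheaf.IsSheaf J (yoneda.obj U ⋙ uliftFunctor.{u + 1, u}) := SmallSubcanonical.isSheaf U
  let ε' : F'.obj ≅ yoneda.obj U ⋙ uliftFunctor.{u + 1, u} :=
    (sheafToPresheaf _ _).mapIso ε ≪≫ (@asIso _ _ _ _ (toSheafify J _) (isIso_toSheafify _ hsh)).symm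
  haveI : Surjective U.hom := ⟨fun z => by
    obtain ⟨V, ⟨v, hv⟩, -, -, ⟨s⟩⟩ := hloc z
    let r : V ⟶ U := (ε'.hom.app (op V) s).down
    exact ⟨r.left.base v, (congrArg (fun m => m.base v) (MorphismProperty.Over.w r)).trans hv⟩⟩
  let p : {x : S.X₂.obj.obj (op U) // S.g.hom.app _ x = S.X₃.obj.map (toTop U).op e} :=
    ε'.inv.app (op U) ⟨𝟙 U⟩
  exact ⟨U, hU, inferInstance, p.1, p.2⟩

/-- Degree one classes with finite locally constant coefficients die on a finite étale cover. -/
theorem exists_cover_killing (F : EtCoh.Ab Z) (hF : EtCoh.IsFiniteLocallyConstant F) (ζ : EtCoh.H Z F 1) :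
    ∃ (Y : Scheme.{u}) (g : Y ⟶ Z), IsFinite g ∧ Etale g ∧ Surjective g ∧
      ∀ [PreservesFiniteLimits (EtCoh.pull g)], EtCore.Hpull g F 1 ζ = 0 := by
  let S : ShortComplex (EtCoh.Ab Z) :=
    ShortComplex.mk (Injective.ι F) (cokernel.π (Injective.ι F)) (cokernel.condition _)
  have hS : S.ShortExact := { exact := ShortComplex.exact_of_g_is_cokernel _ (cokernelIsCokernel _) }
  haveI : Subsingleton (Ext.{u + 1} (EtCoh.const Z ℤ) S.X₂ 1) := by
    haveI : Injective S.X₂ := inferInstanceAs (Injective (Injective.under F))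
    exact subsingleton_of_forall_eq 0 fun a => Ext.eq_zero_of_injective a
  obtain ⟨x, hx⟩ := Ext.covariant_sequence_exact₁ (EtCoh.const Z ℤ) hS ζ (Subsingleton.elim _ _) (zero_add 1)
  obtain ⟨φ, rfl⟩ := (Ext.mk₀_bijective _ _).2 x
  let e := EtJ.PullSec.elem Z _ φ
  obtain ⟨U, hU, hUs, p, hp⟩ := exists_cover_lift hS hF e
  let g : U.left ⟶ Z := U.hom
  haveI : Etale g := U.prop
  refine ⟨U.left, g, hU, U.prop, hUs, fun {hl} => ?_⟩
  haveI : PreservesColimitsOfSize.{0, 0} (EtCoh.pull g) := (EtCoh.pullPushAdj g).leftAdjoint_preservesColimits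
  haveI : PreservesFiniteColimits (EtCoh.pull g) := PreservesColimitsOfSize.preservesFiniteColimits _
  have hS' := hS.map_of_exact (EtCoh.pull g)
  -- the tautological point of `U` over itself
  let Δ : EtCoh.top U.left ⟶ (EtCoh.bc g).obj U :=
    MorphismProperty.Over.homMk (pullback.lift (𝟙 _) (𝟙 _) rfl) (pullback.lift_snd _ _ _)
  let σ : EtCoh.sect ((EtCoh.pull g).obj S.X₂) (EtCoh.top U.left) :=
    ((EtCoh.pull g).obj S.X₂).obj.map Δ.op (((EtCoh.pullPushAdj g).unit.app S.X₂).hom.app (op U) p)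
  let a := (EtJ.PullSec.elem U.left _).symm σ
  have ha : a ≫ (EtCoh.pull g).map S.g = (EtCore.pullConst g ℤ).inv ≫ (EtCoh.pull g).map φ := by
    apply (EtJ.PullSec.elem U.left _).injective
    rw [EtJ.PullSec.elem_comp, EtJ.PullSec.elem_comp, AddEquiv.apply_symm_apply,
      EtJ.PullSec.elem_pullConst_inv, ← EtJ.PullSec.pullSec_natural, ← EtJ.PullSec.elem_comp, Category.id_comp]
    have h₁ := ConcreteCategory.congr_hom
      (congr_arg (fun m => m.hom.app (op U)) ((EtCoh.pullPushAdj g).unit.naturality S.g)) p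
    change ((EtCoh.pull g).map S.g).hom.app _ (((EtCoh.pull g).obj S.X₂).obj.map Δ.op _) = _
    rw [NatTrans.naturality_apply ((EtCoh.pull g).map S.g).hom Δ.op]
    refine Eq.trans (congrArg _ h₁.symm) ?_
    change ((EtCoh.pull g).obj S.X₃).obj.map Δ.op
      (((EtCoh.pullPushAdj g).unit.app S.X₃).hom.app (op U) (S.g.hom.app (op U) p)) = _
    rw [hp, EtJ.PullSec.pullSec_apply]
    refine Eq.trans (congrArg _ (ConcreteCategory.congr_hom
      (((EtCoh.pullPushAdj g).unit.app S.X₃).hom.naturality (toTop U).op) e)) ?_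
    refine (ConcreteCategory.congr_hom
      (((EtCoh.pull g).obj S.X₃).obj.map_comp ((EtCoh.bc g).map (toTop U)).op Δ.op) _).symm.trans ?_
    rw [← op_comp, (EtCore.bcTopIsTerminal g).hom_ext (Δ ≫ (EtCoh.bc g).map (toTop U))
      ((EtCore.bcTopIsTerminal g).from (EtCoh.top U.left))]
    rfl
  change (Ext.mk₀ (EtCore.pullConst g ℤ).inv).comp ((EtCoh.pull g).mapExtAddHom _ _ 1 ζ) (zero_add 1) = 0
  rw [← hx]
  simp only [Functor.mapExtAddHom_coe, Ext.mapExactFunctor_comp, Ext.mapExactFunctor_mk₀,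
    Ext.mapExactFunctor_extClass]
  rw [← Ext.comp_assoc_of_second_deg_zero, Ext.mk₀_comp_mk₀, ← ha, ← Ext.mk₀_comp_mk₀,
    Ext.comp_assoc_of_second_deg_zero]
  erw [hS'.comp_extClass, Ext.comp_zero]

end Groth.Agent.Lib.SepClosedSplit.H1Cover
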