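import Groth.Agent.Lib.EtSite.NormalEtaleSep
import Groth.Agent.Lib.Henselian.EtaleLift
import Mathlib.AlgebraicGeometry.Morphisms.Etale
import Mathlib.AlgebraicGeometry.Morphisms.ClosedImmersion

/-!
# Affine étale schemes over closed subschemes of normal affine schemes with separably closed function field
-/

set_option autoImplicit false
set_option linter.style.haveILetI false
set_option backward.isDefEq.respectTransparency false

universe u

open CategoryTheory CategoryTheory.Limits AlgebraicGeometry TopologicalSpace TensorProduct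

noncomputable section

namespace Groth.Agent.Lib.SepClosedSplit

theorem exists_pullback_spec {A B C : Type u} [CommRing A] [CommRing B] [CommRing C] [Algebra A B]
    (hs : Function.Surjective (algebraMap A B)) [Algebra B C] [Algebra.Etale B C] :
    ∃ (L : Type u) (_ : CommRing L) (_ : Algebra A L) (_ : Algebra.Etale A L) (ψ : L →+* C),
      IsPullback (Spec.map (CommRingCat.ofHom ψ)) (Spec.map (CommRingCat.ofHom (algebraMap B C)))
        (Spec.map (CommRingCat.ofHom (algebraMap A L))) (Spec.map (CommRingCat.ofHom (algebraMap A B))) := by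
  let I := RingHom.ker (algebraMap A B)
  let e : (A ⧸ I) ≃+* B := RingHom.quotientKerEquivOfSurjective hs
  letI : Algebra (A ⧸ I) C := ((algebraMap B C).comp e.toRingHom).toAlgebra
  letI : Algebra A C := ((algebraMap B C).comp (algebraMap A B)).toAlgebra
  haveI : IsScalarTower A B C := IsScalarTower.of_algebraMap_eq fun _ => rfl
  haveI : IsScalarTower A (A ⧸ I) C := IsScalarTower.of_algebraMap_eq fun x =>
    congrArg (algebraMap B C) (RingHom.quotientKerEquivOfSurjective_apply_mk hs x).symm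
  haveI : Algebra.Etale (A ⧸ I) C :=
    RingHom.etale_algebraMap.1 (RingHom.Etale.stableUnderComposition e.toRingHom (algebraMap B C)
      (RingHom.Etale.of_bijective e.bijective) (RingHom.etale_algebraMap.2 inferInstance))
  obtain ⟨L, _, _, hL, ψ, hψ, hker⟩ := Henselian.EtaleLift.exists_etale_lift I C
  refine ⟨L, inferInstance, inferInstance, hL, ψ.toRingHom, ?_⟩
  let m : B ⊗[A] L →ₐ[A] C :=
    Algebra.TensorProduct.lift (IsScalarTower.toAlgHom A B C) ψ fun _ _ => Commute.all _ _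
  have hone : ∀ z : B ⊗[A] L, ∃ l, z = (1 : B) ⊗ₜ[A] l := fun z => by
    induction z using TensorProduct.induction_on with
    | zero => exact ⟨0, (TensorProduct.tmul_zero _ _).symm⟩
    | tmul b l =>
      obtain ⟨a, rfl⟩ := hs b
      exact ⟨a • l, by rw [Algebra.algebraMap_eq_smul_one, TensorProduct.smul_tmul]⟩
    | add x y hx hy =>
      obtain ⟨l, rfl⟩ := hx
      obtain ⟨l', rfl⟩ := hy
      exact ⟨l + l', (TensorProduct.tmul_add _ _ _).symm⟩
  have hm : Function.Bijective m := by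
    refine ⟨(injective_iff_map_eq_zero m).2 fun z hz => ?_, fun c => ?_⟩
    · obtain ⟨l, rfl⟩ := hone z
      have hl : l ∈ RingHom.ker ψ.toRingHom := by simpa [m] using hz
      rw [hker] at hl
      let ι : L →ₐ[A] B ⊗[A] L := Algebra.TensorProduct.includeRight
      change ι l = 0
      have h0 : I.map (algebraMap A L) ≤ RingHom.ker ι.toRingHom := Ideal.map_le_iff_le_comap.2 fun a ha => by
        change ι (algebraMap A L a) = 0
        rw [AlgHom.commutes, Algebra.TensorProduct.algebraMap_apply,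
          show algebraMap A B a = 0 from ha, TensorProduct.zero_tmul]
      exact h0 hl
    · obtain ⟨l, rfl⟩ := hψ c
      exact ⟨1 ⊗ₜ l, by simp [m]⟩
  let E := (RingEquiv.ofBijective m.toRingHom hm).toCommRingCatIso
  refine isPullback_SpecMap_of_isPushout _ _ _ _ ?_
  refine IsPushout.flip ((CommRingCat.isPushout_tensorProduct A B L).of_iso (Iso.refl _) (Iso.refl _) (Iso.refl _)
    E ?_ ?_ ?_ ?_)
  · simp
  · simp
  · ext b; simp [E, m]
  · ext l; simp [E, m]

/-- Affine étale schemes over a closed subscheme of an affine scheme extend. -/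
theorem exists_lift {V Z X : Scheme.{u}} [IsAffine X] (i : Z ⟶ X) [IsClosedImmersion i] (φ : V ⟶ Z)
    [AlgebraicGeometry.Etale φ] [IsAffine V] :
    ∃ (W : Scheme.{u}) (_ : IsAffine W) (g : W ⟶ X) (_ : AlgebraicGeometry.Etale g) (q : V ⟶ W),
      IsPullback q φ g i := by
  obtain ⟨hZ, hs⟩ := IsClosedImmersion.isAffine_surjective_of_isAffine i
  letI : Algebra Γ(X, ⊤) Γ(Z, ⊤) := i.appTop.hom.toAlgebra
  letI : Algebra Γ(Z, ⊤) Γ(V, ⊤) := φ.appTop.hom.toAlgebra
  haveI : Algebra.Etale Γ(Z, ⊤) Γ(V, ⊤) :=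
    RingHom.etale_algebraMap.1 ((HasRingHomProperty.iff_of_isAffine (P := @AlgebraicGeometry.Etale)).1 ‹_›)
  obtain ⟨L, _, _, hL, ψ, hψ⟩ := exists_pullback_spec (A := Γ(X, ⊤)) (B := Γ(Z, ⊤)) (C := Γ(V, ⊤)) hs
  haveI : AlgebraicGeometry.Etale (Spec.map (CommRingCat.ofHom (algebraMap Γ(X, ⊤) L))) := by
    rw [HasRingHomProperty.Spec_iff (P := @AlgebraicGeometry.Etale)]
    exact RingHom.etale_algebraMap.2 hL
  refine ⟨Spec (CommRingCat.of L), inferInstance,
    Spec.map (CommRingCat.ofHom (algebraMap Γ(X, ⊤) L)) ≫ X.isoSpec.inv, inferInstance,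
    V.isoSpec.hom ≫ Spec.map (CommRingCat.ofHom ψ), ?_⟩
  refine hψ.of_iso V.isoSpec.symm (Iso.refl _) Z.isoSpec.symm X.isoSpec.symm ?_ ?_ ?_ ?_
  · simp
  · exact Scheme.isoSpec_inv_naturality φ
  · simp
  · exact Scheme.isoSpec_inv_naturality i

/-- Affine étale schemes over closed subschemes split into open subschemes. -/
theorem exists_split {V Z X : Scheme.{u}} [IsAffine X] [IsIntegral X]
    (hN : ∀ x : X, IsIntegrallyClosed (X.presheaf.stalk x)) [IsSepClosed X.functionField]
    (i : Z ⟶ X) [IsClosedImmersion i] (φ : V ⟶ Z) [AlgebraicGeometry.Etale φ] [IsAffine V] :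
    ∃ (ι : Type u) (_ : Finite ι) (W : ι → Z.Opens) (e : (∐ fun k => (W k : Scheme.{u})) ≅ V),
      ∀ k, Sigma.ι (fun k => (W k : Scheme.{u})) k ≫ e.hom ≫ φ = (W k).ι := by
  obtain ⟨U, hU, g, hg, q, hq⟩ := exists_lift i φ
  obtain ⟨ι, O, e, he⟩ := EtSite.NormalEtaleSep.exists_decomposition g hN
  let s := fun k => Sigma.ι (fun k => (O k : Scheme.{u})) k ≫ e.hom
  have hs : ∀ k, s k ≫ g = (O k).ι := fun k => (Category.assoc _ _ _).trans (he k)
  let a : ∀ k, ((i ⁻¹ᵁ O k : Z.Opens) : Scheme.{u}) ⟶ V := fun k =>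
    hq.lift (i ∣_ O k ≫ s k) (i ⁻¹ᵁ O k).ι (by rw [Category.assoc, hs, morphismRestrict_ι])
  have haφ : ∀ k, a k ≫ φ = (i ⁻¹ᵁ O k).ι := fun k => hq.lift_snd _ _ _
  have haq : ∀ k, a k ≫ q = i ∣_ O k ≫ s k := fun k => hq.lift_fst _ _ _
  haveI : ∀ k, IsOpenImmersion (a k) := fun k => by
    haveI h1 : AlgebraicGeometry.Etale (a k ≫ φ) := haφ k ▸ inferInstance
    haveI : AlgebraicGeometry.Etale (a k) := MorphismProperty.of_postcomp @AlgebraicGeometry.Etale
      (W' := @AlgebraicGeometry.Etale) (a k) φ ‹_› h1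
    haveI : Mono (a k ≫ φ) := haφ k ▸ inferInstance
    haveI := mono_of_mono (a k) φ
    exact IsOpenImmersion.of_flat_of_mono (a k)
  have hOI : ∀ k, IsOpenImmersion (s k) := fun k => inferInstance
  have hdis : ∀ k l, k ≠ l → Disjoint (s k).opensRange (s l).opensRange := by
    intro k l hkl
    have h := disjoint_opensRange_sigmaι (fun k => (O k : Scheme.{u})) k l hkl
    rw [disjoint_iff, ← Opens.coe_inj, Opens.coe_inf, Opens.coe_bot] at h ⊢
    have : ∀ j, ((s j).opensRange : Set U) = e.hom.base '' (Sigma.ι (fun k => (O k : Scheme.{u})) j).opensRange :=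
      fun j => by
        change Set.range (s j).base = e.hom.base '' Set.range _
        rw [← Set.range_comp]
        rfl
    rw [this, this, ← Set.image_inter (f := e.hom.base) e.hom.homeomorph.injective]
    exact (congrArg _ h).trans (Set.image_empty _)
  have hcov : ∀ u : U, ∃ k, u ∈ (s k).opensRange := fun u => by
    obtain ⟨k, y, hy⟩ := (sigmaOpenCover (fun k => (O k : Scheme.{u}))).exists_eq (e.inv.base u)
    exact ⟨k, y, by
      change e.hom.base ((Sigma.ι (fun k => (O k : Scheme.{u})) k).base y) = u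
      erw [hy]
      exact congrArg (fun m => m.base u) e.inv_hom_id⟩
  obtain ⟨T, hT⟩ := isCompact_univ.elim_finite_subcover (fun k => ((s k).opensRange : Set U))
    (fun k => (s k).opensRange.2) fun u _ => Set.mem_iUnion.2 (hcov u)
  have hrange : ∀ k v, q.base v ∈ (s k).opensRange → v ∈ (a k).opensRange := by
    rintro k v ⟨y, hy⟩
    have hz : φ.base v ∈ i ⁻¹ᵁ O k := by
      change i.base (φ.base v) ∈ O k
      rw [← Scheme.Hom.comp_apply, ← hq.w, Scheme.Hom.comp_apply, ← hy, ← Scheme.Hom.comp_apply, hs]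
      exact y.2
    refine ⟨⟨φ.base v, hz⟩, ?_⟩
    haveI : IsClosedImmersion q := MorphismProperty.of_isPullback hq.flip ‹IsClosedImmersion i›
    apply q.isClosedEmbedding.injective
    rw [← hy, ← Scheme.Hom.comp_apply, haq, Scheme.Hom.comp_apply]
    refine congrArg (s k).base (Subtype.ext ?_)
    rw [← Scheme.Opens.ι_apply, ← Scheme.Hom.comp_apply, morphismRestrict_ι, Scheme.Hom.comp_apply,
      show ((i ⁻¹ᵁ O k).ι.base ⟨φ.base v, hz⟩) = φ.base v from rfl, ← Scheme.Hom.comp_apply, ← hq.w,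
      Scheme.Hom.comp_apply, ← hy, ← Scheme.Hom.comp_apply, hs]
    rfl
  obtain ⟨hc⟩ := nonempty_isColimit_cofanMk_of (fun k : {k // k ∈ T} => a k.1) (by
    refine eq_top_iff.2 fun v _ => ?_
    obtain ⟨k, hk, hk'⟩ := Set.mem_iUnion₂.1 (hT (Set.mem_univ (q.base v)))
    exact Opens.mem_iSup.2 ⟨⟨k, hk⟩, hrange k v hk'⟩) (fun k l hkl => by
    refine disjoint_iff_inf_le.2 ?_
    rintro v ⟨⟨y, hy⟩, ⟨y', hy'⟩⟩
    refine ((disjoint_iff_inf_le.1 (hdis k.1 l.1 fun h => hkl (Subtype.ext h))) (x := q.base v) ⟨?_, ?_⟩).elim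
    · exact ⟨(i ∣_ O k.1).base y, by rw [← Scheme.Hom.comp_apply, ← haq, Scheme.Hom.comp_apply, hy]⟩
    · exact ⟨(i ∣_ O l.1).base y', by rw [← Scheme.Hom.comp_apply, ← haq, Scheme.Hom.comp_apply, hy']⟩)
  refine ⟨{k // k ∈ T}, inferInstance, fun k => i ⁻¹ᵁ O k.1,
    (coproductIsCoproduct _).coconePointUniqueUpToIso hc, fun k => ?_⟩
  refine (Category.assoc _ _ _).symm.trans ?_
  exact (eq_whisker (IsColimit.comp_coconePointUniqueUpToIso_hom (coproductIsCoproduct _) hc ⟨k⟩) φ).trans (haφ k.1)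

end Groth.Agent.Lib.SepClosedSplit
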