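import Groth.Prelude.Def_EtBase
import Groth.Agent.Lib.EtSite.RepCharts
import Groth.Agent.Lib.EtSite.SmallSubcanonical
import Groth.Agent.Lib.CechPsh.ShortExact
import Mathlib.Algebra.Category.Grp.EpiMono
import Mathlib.Algebra.Homology.DerivedCategory.Ext.EnoughInjectives
import Mathlib.Algebra.Homology.DerivedCategory.Ext.ExactSequences
import Mathlib.CategoryTheory.Sites.LocallyBijective

/-!
# `H¹` of finite constant sheaves vanishes when finite étale covers split
-/

set_option autoImplicit false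
set_option linter.style.haveILetI false
set_option backward.isDefEq.respectTransparency false

universe u

open CategoryTheory CategoryTheory.Limits CategoryTheory.Abelian AlgebraicGeometry Opposite

noncomputable section

namespace Groth.Agent.Lib.SepClosedSplit.H1

open Groth.Agent.Lib.EtSite Groth.Agent.Lib.EtSite.Basic

variable {Z : Scheme.{u}}

/-- Constant sections of a constant sheaf. -/
abbrev one (A : Type) [AddCommGroup A] (U : Z.Etale) :
    AddCommGrpCat.of (ULift.{u + 1} A) ⟶ (EtCoh.const Z A).obj.obj (op U) :=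
  (toSheafify Z.smallEtaleTopology
    ((Functor.const Z.Etaleᵒᵖ).obj (AddCommGrpCat.of (ULift.{u + 1} A)))).app (op U)

theorem one_map {A : Type} [AddCommGroup A] {U V : Z.Etale} (g : V ⟶ U) (a : ULift.{u + 1} A) :
    (EtCoh.const Z A).obj.map g.op (one A U a) = one A V a :=
  ((toSheafify Z.smallEtaleTopology
    ((Functor.const Z.Etaleᵒᵖ).obj (AddCommGrpCat.of (ULift.{u + 1} A)))).naturality_apply g.op a).symm

variable {I Q : EtCoh.Ab Z} (π : I ⟶ Q) (φ : EtCoh.const Z ℤ ⟶ Q)

/-- The value of a global section at an object. -/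
abbrev val (U : Z.Etale) : Q.obj.obj (op U) := φ.hom.app (op U) (one ℤ U (ULift.up (1 : ℤ)))

theorem val_map {U V : Z.Etale} (g : V ⟶ U) : Q.obj.map g.op (val φ U) = val φ V := by
  rw [val, ← NatTrans.naturality_apply φ.hom g.op, one_map]

/-- Preimages of a global section. -/
def preim : Z.Etaleᵒᵖ ⥤ Type (u + 1) where
  obj U := {x : I.obj.obj U // π.hom.app U x = val φ U.unop}
  map f := TypeCat.ofHom fun x => ⟨I.obj.map f x.1, by
    rw [NatTrans.naturality_apply π.hom f x.1, x.2]; exact val_map φ f.unop⟩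
  map_id U := by
    ext x
    show I.obj.map (𝟙 U) x.1 = x.1
    rw [I.obj.map_id]
    rfl
  map_comp f g := by
    ext x
    show I.obj.map (f ≫ g) x.1 = I.obj.map g (I.obj.map f x.1)
    rw [I.obj.map_comp]
    rfl

theorem isSheaf_ab (F : EtCoh.Ab Z) :
    Presieve.IsSheaf Z.smallEtaleTopology (F.obj ⋙ forget AddCommGrpCat.{u + 1}) :=
  (isSheaf_iff_isSheaf_of_type _ _).1
    ((Presheaf.isSheaf_iff_isSheaf_forget _ _ (forget AddCommGrpCat.{u + 1})).1 F.property)

theorem preim_isSheaf : Presieve.IsSheaf Z.smallEtaleTopology (preim π φ) := by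
  intro U S hS x hx
  let y : Presieve.FamilyOfElements (I.obj ⋙ forget AddCommGrpCat.{u + 1}) (S : Presieve U) :=
    fun V f hf => (x f hf).1
  have hy : y.Compatible := fun Y₁ Y₂ V g₁ g₂ f₁ f₂ h₁ h₂ e =>
    congrArg Subtype.val (hx g₁ g₂ h₁ h₂ e)
  obtain ⟨t, ht, htu⟩ := isSheaf_ab I S hS y hy
  have hts : π.hom.app (op U) t = val φ U := by
    refine ((isSheaf_ab Q) S hS).isSeparatedFor.ext fun V f hf => ?_
    change Q.obj.map f.op _ = Q.obj.map f.op _
    rw [← NatTrans.naturality_apply π.hom f.op t, val_map]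
    have : I.obj.map f.op t = (x f hf).1 := ht f hf
    rw [this]
    exact (x f hf).2
  exact ⟨⟨t, hts⟩, fun V f hf => Subtype.ext (ht f hf),
    fun t' ht' => Subtype.ext (htu t'.1 fun V f hf => congrArg Subtype.val (ht' f hf))⟩

/-- `H¹` of a finite constant sheaf vanishes if all surjective finite étale covers have sections. -/
theorem subsingleton_H_one
    (hZ : ∀ {V : Scheme.{u}} (f : V ⟶ Z) [Etale f] [IsFinite f] [Surjective f], ∃ s, s ≫ f = 𝟙 Z)
    (M : Type) [AddCommGroup M] [Finite M] : Subsingleton (EtCoh.H Z (EtCoh.const Z M) 1) := by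
  refine subsingleton_of_forall_eq 0 fun e => ?_
  let S : ShortComplex (EtCoh.Ab Z) :=
    ShortComplex.mk (Injective.ι (EtCoh.const Z M)) (cokernel.π (Injective.ι (EtCoh.const Z M))) (cokernel.condition _)
  have hS : S.ShortExact := { exact := ShortComplex.exact_of_g_is_cokernel _ (cokernelIsCokernel _) }
  haveI : Subsingleton (Ext.{u + 1} (EtCoh.const Z ℤ) S.X₂ 1) := by
    haveI : Injective S.X₂ := inferInstanceAs (Injective (Injective.under (EtCoh.const Z M)))
    exact subsingleton_of_forall_eq 0 fun a => Ext.eq_zero_of_injective a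
  obtain ⟨x, hx⟩ := Ext.covariant_sequence_exact₁ (EtCoh.const Z ℤ) hS e (Subsingleton.elim _ _) (zero_add 1)
  obtain ⟨φ, rfl⟩ := (Ext.mk₀_bijective _ _).2 x
  let J := Z.smallEtaleTopology
  let F' : EtDesc.Sh Z := ⟨preim S.g φ, (isSheaf_iff_isSheaf_of_type _ _).2 (preim_isSheaf S.g φ)⟩
  have hle := fun U => CechPsh.ShortExact.app_left_exact hS (W := op U)
  -- local sections
  have hloc : ∀ z : Z, ∃ (V : Z.Etale) (_ : ∃ v : V.left, V.hom.base v = z), Nonempty (EtDesc.sect F' V) := by
    intro z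
    haveI : Epi S.g := hS.epi_g
    haveI : Sheaf.IsLocallySurjective S.g := (Sheaf.isLocallySurjective_iff_epi' _ _).2 inferInstance
    have hmem : Presheaf.imageSieve S.g.hom (val φ (EtCoh.top Z)) ∈ J (EtCoh.top Z) :=
      Presheaf.imageSieve_mem J S.g.hom _
    obtain ⟨V, g, ⟨s, hs⟩, v, hv⟩ := (mem_topology_iff _).1 hmem z
    refine ⟨V, ⟨v, ?_⟩, ⟨⟨s, hs.trans (val_map φ g)⟩⟩⟩
    have : g.left ≫ 𝟙 Z = V.hom := MorphismProperty.Over.w g
    rw [← hv, ← this]
    rfl
  have key : ∀ z : Z, ∃ (U : Z.Etale) (_ : ∃ v : U.left, U.hom.base v = z) (n : ℕ)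
      (ψ : ULift.{u + 1} (Fin n) → EtDesc.sect F' U), RepCharts.IsChart F' U ψ := by
    intro z
    obtain ⟨V, hV, ⟨s⟩⟩ := hloc z
    let N := AddCommGrpCat.of (ULift.{u + 1} M)
    let η := toSheafify J ((Functor.const Z.Etaleᵒᵖ).obj N)
    haveI : Presheaf.IsLocallyInjective J η := inferInstanceAs (Presheaf.IsLocallyInjective J (toSheafify J _))
    haveI : Presheaf.IsLocallySurjective J η := inferInstanceAs (Presheaf.IsLocallySurjective J (toSheafify J _))
    let I_add : ∀ {W : Z.Etale}, (W ⟶ V) → ULift.{u + 1} M → S.X₂.obj.obj (op W) := fun {W} f m =>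
      S.X₂.obj.map f.op s.1 + S.f.hom.app (op W) (η.app (op W) m)
    have I_add_mem : ∀ {W : Z.Etale} (f : W ⟶ V) m, S.g.hom.app (op W) (I_add f m) = val φ W := fun {W} f m => by
      change S.g.hom.app (op W) (_ + _) = _
      rw [map_add, (hle W).2.1, add_zero, NatTrans.naturality_apply S.g.hom f.op s.1, s.2, val_map]
    have map_I_add : ∀ {W W' : Z.Etale} (k : W' ⟶ W) (f : W ⟶ V) m,
        S.X₂.obj.map k.op (I_add f m) = I_add (k ≫ f) m := fun {W W'} k f m => by
      change S.X₂.obj.map k.op (_ + _) = _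
      rw [map_add, ← ConcreteCategory.comp_apply, ← Functor.map_comp, ← op_comp,
        ← NatTrans.naturality_apply S.f.hom k.op]
      exact congrArg _ (congrArg (S.f.hom.app (op W')) ((η.naturality_apply k.op m).symm))
    let τ : (Functor.const (Over V)ᵒᵖ).obj (ULift.{u + 1} M) ⟶ (Over.forget V).op ⋙ F'.obj :=
      { app := fun W => TypeCat.ofHom fun m => (⟨I_add W.unop.hom m, I_add_mem W.unop.hom m⟩ :
          {x : S.X₂.obj.obj (op W.unop.left) // S.g.hom.app _ x = val φ W.unop.left})
        naturality := fun W W' g => by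
          ext m
          refine Subtype.ext ?_
          change I_add W'.unop.hom m = S.X₂.obj.map g.unop.left.op (I_add W.unop.hom m)
          rw [map_I_add]
          exact congrArg (fun k => I_add k m) (Over.w g.unop).symm }
    have hinj : Presheaf.IsLocallyInjective (J.over V) τ := ⟨fun {W} a b hab => by
      rw [GrothendieckTopology.mem_over_iff]
      have h := congrArg Subtype.val hab
      have h' : η.app (op W.unop.left) a = η.app (op W.unop.left) b :=
        (hle W.unop.left).1 (add_left_cancel h)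
      refine J.superset_covering ?_ (Presheaf.equalizerSieve_mem J η (X := op W.unop.left) a b h')
      intro Y k hk
      exact (Sieve.overEquiv_iff _ _).2 hk⟩
    have hsurj : Presheaf.IsLocallySurjective (J.over V) τ := ⟨fun {W} p => by
      rw [GrothendieckTopology.mem_over_iff]
      let p' : {x : S.X₂.obj.obj (op W.left) // S.g.hom.app _ x = val φ W.left} := p
      obtain ⟨a, ha⟩ := (hle W.left).2.2 (p'.1 - S.X₂.obj.map W.hom.op s.1) (by
        rw [map_sub, p'.2, NatTrans.naturality_apply S.g.hom W.hom.op s.1, s.2, val_map, sub_self])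
      refine J.superset_covering ?_ (Presheaf.imageSieve_mem J η (U := op W.left) a)
      intro Y k hk
      obtain ⟨m, hm⟩ := hk
      refine (Sieve.overEquiv_iff _ _).2 ⟨m, Subtype.ext ?_⟩
      change I_add (k ≫ W.hom) m = S.X₂.obj.map k.op p'.1
      rw [sub_eq_iff_eq_add.1 ha.symm, map_add, ← NatTrans.naturality_apply S.f.hom k.op a,
        show S.X₁.obj.map k.op a = η.app (op Y) m from hm.symm,
        ← ConcreteCategory.comp_apply (S.X₂.obj.map W.hom.op), ← Functor.map_comp, ← op_comp, add_comm]⟩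
    obtain ⟨ψ, hψ⟩ := @RepCharts.exists_isChart _ F' V _ τ hinj hsurj
    obtain ⟨n, ψ', hψ'⟩ := hψ.exists_fin
    exact ⟨V, hV, n, ψ', hψ'⟩
  obtain ⟨U, hU, ⟨ε⟩⟩ := RepCharts.exists_repSh_iso_of_charts F' key
  have hsh : Presheaf.IsSheaf J (yoneda.obj U ⋙ uliftFunctor.{u + 1, u}) := SmallSubcanonical.isSheaf U
  let ε' : F'.obj ≅ yoneda.obj U ⋙ uliftFunctor.{u + 1, u} :=
    (sheafToPresheaf _ _).mapIso ε ≪≫ (@asIso _ _ _ _ (toSheafify J _) (isIso_toSheafify _ hsh)).symm
  haveI : IsFinite U.hom := hU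
  haveI : Etale U.hom := U.prop
  haveI : Surjective U.hom := ⟨fun z => by
    obtain ⟨V, ⟨v, hv⟩, ⟨s⟩⟩ := hloc z
    let r : V ⟶ U := (ε'.hom.app (op V) s).down
    refine ⟨r.left.base v, ?_⟩
    exact (congrArg (fun m => m.base v) (MorphismProperty.Over.w r)).trans hv⟩
  obtain ⟨σ, hσ⟩ := hZ U.hom
  let p : {x : S.X₂.obj.obj (op (EtCoh.top Z)) // S.g.hom.app _ x = val φ (EtCoh.top Z)} :=
    ε'.inv.app (op (EtCoh.top Z)) ⟨MorphismProperty.Over.homMk σ hσ⟩
  let toTop : ∀ V : Z.Etale, V ⟶ EtCoh.top Z := fun V =>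
    MorphismProperty.Over.homMk V.hom (Category.comp_id _)
  let g₀ : (Functor.const Z.Etaleᵒᵖ).obj (AddCommGrpCat.of (ULift.{u + 1} ℤ)) ⟶ S.X₂.obj :=
    { app := fun V => AddCommGrpCat.ofHom
        ((zmultiplesHom _ (S.X₂.obj.map (toTop V.unop).op p.1)).comp AddEquiv.ulift.toAddMonoidHom)
      naturality := fun V W f => by
        ext n
        change n.down • S.X₂.obj.map (toTop W.unop).op p.1 = S.X₂.obj.map f (n.down • S.X₂.obj.map (toTop V.unop).op p.1)
        rw [map_zsmul, ← ConcreteCategory.comp_apply, ← Functor.map_comp]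
        congr 4
        exact congrArg Quiver.Hom.op (MorphismProperty.Over.Hom.ext ((MorphismProperty.Over.w f.unop).symm.trans rfl)) }
  let g : EtCoh.const Z ℤ ⟶ S.X₂ := ⟨sheafifyLift J g₀ S.X₂.property⟩
  have hg : g ≫ S.g = φ := by
    apply Sheaf.hom_ext
    refine sheafify_hom_ext J _ _ S.X₃.property ?_
    change toSheafify J _ ≫ sheafifyLift J g₀ S.X₂.property ≫ S.g.hom = _
    rw [← Category.assoc, toSheafify_sheafifyLift]
    ext V n
    change S.g.hom.app V (n.down • S.X₂.obj.map (toTop V.unop).op p.1) = φ.hom.app V (one ℤ V.unop n)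
    rw [map_zsmul, NatTrans.naturality_apply S.g.hom (toTop V.unop).op p.1, p.2, val_map, val, ← map_zsmul, ← map_zsmul]
    refine congrArg _ (congrArg _ ?_)
    exact ULift.ext _ _ (by simp)
  rw [← hx, ← hg, ← Ext.mk₀_comp_mk₀, Ext.comp_assoc_of_second_deg_zero]
  erw [hS.comp_extClass, Ext.comp_zero]

end Groth.Agent.Lib.SepClosedSplit.H1
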