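import Groth.Agent.Lib.SepClosedSplit.OpenMV
import Groth.Agent.Lib.SepClosedSplit.Basic
import Groth.Agent.S0092
import Groth.Agent.Lib.EtSite.Sections
import Mathlib.AlgebraicGeometry.FunctionField

/-!
# Higher cohomology of finite constant sheaves on closed subschemes of affine schemes with sep. closed function field
-/

set_option autoImplicit false
set_option linter.style.haveILetI false

universe u

open CategoryTheory CategoryTheory.Limits CategoryTheory.Abelian AlgebraicGeometry Opposite TopologicalSpace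
open Groth.Agent.Lib.EtJ Groth.Agent.H61

noncomputable section

namespace Groth.Agent.Lib.SepClosedSplit.HConst

open OpenMV

theorem integrallyClosed_stalk_open {X : Scheme.{u}} (U : X.Opens)
    (hN : ∀ x : X, IsIntegrallyClosed (X.presheaf.stalk x)) (x : (U : Scheme.{u})) :
    IsIntegrallyClosed ((U : Scheme.{u}).presheaf.stalk x) :=
  have := hN x.1
  IsIntegrallyClosed.of_equiv (U.stalkIso x).commRingCatIsoToRingEquiv.symm

theorem isSepClosed_functionField_open {X : Scheme.{u}} [IsIntegral X] [IsSepClosed X.functionField]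
    (U : X.Opens) [Nonempty (U : Scheme.{u})] [IsIntegral (U : Scheme.{u})] :
    IsSepClosed (U : Scheme.{u}).functionField := by
  have e : X.functionField ≅ (U : Scheme.{u}).functionField :=
    X.presheaf.stalkCongr (Inseparable.of_eq (genericPoint_eq_of_isOpenImmersion U.ι).symm) ≪≫
      (U.stalkIso (genericPoint (U : Scheme.{u}))).symm
  exact EtSite.Sections.isSepClosed_of_ringEquiv e.commRingCatIsoToRingEquiv

/-- Zariski localization of a class. -/
theorem exists_basicOpen_kills {Z X : Scheme.{u}} [IsAffine X] [IsIntegral X] [IsAffine Z]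
    (hN : ∀ x : X, IsIntegrallyClosed (X.presheaf.stalk x)) [IsSepClosed X.functionField]
    (i : Z ⟶ X) [IsClosedImmersion i] {F : EtCoh.Ab Z} {n : ℕ} (e : EtCoh.H Z F (n + 1)) (z : Z) :
    ∃ a : Γ(Z, ⊤), z ∈ Z.basicOpen a ∧ Kills (Z.basicOpen a).ι e := by
  obtain ⟨U, j, hj, u, hu, hk⟩ := exists_nhd_kills n e z
  obtain ⟨_, ⟨(O : U.Opens), hO, rfl⟩, hv, -⟩ :=
    U.isBasis_affineOpens.exists_subset_of_mem_open (Set.mem_univ u) isOpen_univ
  haveI : IsAffine (O : Scheme.{u}) := hO
  obtain ⟨ι, _, W, ε, hε⟩ := exists_split hN i (O.ι ≫ j)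
  obtain ⟨k, y, hy⟩ := (sigmaOpenCover (fun k => (W k : Scheme.{u}))).exists_eq (ε.inv.base ⟨u, hv⟩)
  let s : (W k : Scheme.{u}) ⟶ U := (Sigma.ι (fun k => (W k : Scheme.{u})) k ≫ ε.hom) ≫ O.ι
  have hs : s ≫ j = (W k).ι := by
    rw [Category.assoc, Category.assoc]
    exact hε k
  have hz : z ∈ W k := by
    have h1 : (Sigma.ι (fun k => (W k : Scheme.{u})) k ≫ ε.hom).base y = ⟨u, hv⟩ := by
      change ε.hom.base ((Sigma.ι (fun k => (W k : Scheme.{u})) k).base y) = _
      erw [hy]
      exact congrArg (fun m => m.base ⟨u, hv⟩) ε.inv_hom_id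
    have h2 : s.base y = u := congrArg O.ι.base h1
    have h3 : j.base (s.base y) = y.1 := congrArg (fun m => m.base y) hs
    rw [h2, hu] at h3
    exact h3 ▸ y.2
  obtain ⟨a, ha, hza⟩ := (isAffineOpen_top Z).exists_basicOpen_le (V := W k) ⟨z, hz⟩ (Opens.mem_top z)
  exact ⟨a, hza, (hk.of_hom (homOf j (W k).ι s hs)).of_le ha⟩

theorem subsingleton_H_iso {Z : Scheme.{u}} {G G' : EtCoh.Ab Z} (e : G ≅ G') (n : ℕ)
    [Subsingleton (EtCoh.H Z G n)] : Subsingleton (EtCoh.H Z G' n) :=
  haveI : Subsingleton ((EtCoh.HF Z n).obj G) := ‹Subsingleton (EtCoh.H Z G n)›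
  ((EtCoh.HF Z n).mapIso e).addCommGroupIsoToAddEquiv.symm.toEquiv.subsingleton

/-- Gabber's vanishing. -/
theorem subsingleton_H (q : ℕ) : ∀ {Z X : Scheme.{u}} [IsAffine X] [IsIntegral X]
    (_ : ∀ x : X, IsIntegrallyClosed (X.presheaf.stalk x)) [IsSepClosed X.functionField]
    (i : Z ⟶ X) [IsClosedImmersion i] (M : Type) [AddCommGroup M] [Finite M],
    Subsingleton (EtCoh.H Z (EtCoh.const Z M) (q + 1)) := by
  induction q with
  | zero => exact fun hN _ i _ M _ _ => Groth.Agent.S0092.result hN i M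
  | succ q ih =>
    intro Z X _ _ hN _ i _ M _ _
    haveI : IsAffine Z := isAffine_of_isAffineHom i
    have hC : ∀ c : Γ(Z, ⊤),
        Subsingleton (Ext.{u + 1} (FieldCoh.free (Z.basicOpen c).ι) (EtCoh.const Z M) (q + 1)) := by
      intro c
      obtain ⟨f, rfl⟩ := (IsClosedImmersion.isAffine_surjective_of_isAffine i).2 c
      by_cases hne : Nonempty (Z.basicOpen (i.appTop f) : Scheme.{u})
      swap
      · haveI : IsEmpty (Z.basicOpen (i.appTop f) : Scheme.{u}) := not_nonempty_iff.1 hne
        exact subsingleton_of_forall_eq 0 fun y => by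
          rw [← Ext.mk₀_id_comp y, (IsZero.iff_id_eq_zero _).1 (isZero_free (Z.basicOpen (i.appTop f)).ι),
            Ext.mk₀_zero, Ext.zero_comp]
      obtain ⟨z⟩ := hne
      let XU := X.basicOpen f
      have hpre : i ⁻¹ᵁ XU = Z.basicOpen (i.appTop f) := Scheme.preimage_basicOpen i f
      haveI : Nonempty (XU : Scheme.{u}) := ⟨⟨i.base z.1, show z.1 ∈ i ⁻¹ᵁ XU by rw [hpre]; exact z.2⟩⟩
      haveI : IsAffine (XU : Scheme.{u}) := (isAffineOpen_top X).basicOpen f
      haveI : IsIntegral (XU : Scheme.{u}) := isIntegral_of_isOpenImmersion XU.ι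
      haveI := isSepClosed_functionField_open XU
      haveI := ih (integrallyClosed_stalk_open XU hN) ((Z.isoOfEq hpre).inv ≫ i ∣_ XU) M
      haveI := subsingleton_H_iso (EtCore.pullConst (Z.basicOpen (i.appTop f)).ι M).symm (q + 1)
      exact (FieldCoh.Φ (Z.basicOpen (i.appTop f)).ι (EtCoh.const Z M) (q + 1)).toEquiv.subsingleton
    refine subsingleton_of_forall_eq 0 fun e => ?_
    let I : Ideal Γ(Z, ⊤) :=
      { carrier := {a | Kills (Z.basicOpen a).ι e}
        zero_mem' := by
          change Kills (Z.basicOpen (0 : Γ(Z, ⊤))).ι e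
          haveI : IsEmpty (Z.basicOpen (0 : Γ(Z, ⊤)) : Scheme.{u}) := by
            rw [Scheme.basicOpen_zero]
            exact ⟨fun x => x.2⟩
          rw [Kills, (isZero_free (Z.basicOpen (0 : Γ(Z, ⊤))).ι).eq_of_src (FieldCoh.aug _) 0,
            Ext.mk₀_zero, Ext.zero_comp]
        add_mem' := fun {a b} ha hb => by
          let P := Z.basicOpen (a + b)
          have h := Kills.sup (Z.basicOpen ((a + b) * a)) (Z.basicOpen ((a + b) * b)) P
            (Z.basicOpen (((a + b) * a) * ((a + b) * b))) (e := e)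
            (by rw [Scheme.basicOpen_mul]; exact inf_le_left) (by rw [Scheme.basicOpen_mul]; exact inf_le_left)
            (fun x hx => ?_) (by rw [Scheme.basicOpen_mul _ ((a + b) * a)]; exact inf_le_left)
            (by rw [Scheme.basicOpen_mul _ ((a + b) * a)]; exact inf_le_right)
            (by rw [Scheme.basicOpen_mul _ ((a + b) * a)]) (hC _)
            (Kills.of_le (by rw [Scheme.basicOpen_mul]; exact inf_le_right) ha)
            (Kills.of_le (by rw [Scheme.basicOpen_mul]; exact inf_le_right) hb)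
          · exact h
          · have hx' := (Z.mem_basicOpen_top (a + b) x).1 hx
            rw [map_add] at hx'
            rw [Scheme.basicOpen_mul, Scheme.basicOpen_mul, Opens.mem_sup]
            rcases IsLocalRing.isUnit_or_isUnit_of_isUnit_add hx' with h | h
            · exact Or.inl ⟨hx, (Z.mem_basicOpen_top a x).2 h⟩
            · exact Or.inr ⟨hx, (Z.mem_basicOpen_top b x).2 h⟩
        smul_mem' := fun c a ha => Kills.of_le (by
          rw [smul_eq_mul, Scheme.basicOpen_mul]
          exact inf_le_right) ha }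
    have hI : I = ⊤ := by
      by_contra h
      obtain ⟨m, hm, hle⟩ := Ideal.exists_le_maximal I h
      haveI := hm.isPrime
      obtain ⟨a, hza, hk⟩ := exists_basicOpen_kills hN i e ((isAffineOpen_top Z).fromSpec ⟨m, inferInstance⟩)
      have : a ∈ m := hle hk
      exact ((isAffineOpen_top Z).fromSpec_preimage_basicOpen a).le hza this
    have h1 : Kills (Z.basicOpen (1 : Γ(Z, ⊤))).ι e := (Ideal.eq_top_iff_one I).1 hI
    exact eq_zero_of_kills_top (Kills.of_le (le_of_eq (Scheme.basicOpen_of_isUnit Z isUnit_one).symm) h1)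

end Groth.Agent.Lib.SepClosedSplit.HConst
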