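import Groth.Agent.H61.FieldCoh.Free
import Groth.Agent.Lib.EtSite.Basic
import Mathlib.Algebra.Category.Grp.EpiMono
import Mathlib.Algebra.Homology.DerivedCategory.Ext.EnoughInjectives
import Mathlib.Algebra.Homology.DerivedCategory.Ext.ExactSequences
import Mathlib.CategoryTheory.Sites.LocallyBijective
import Mathlib.CategoryTheory.Sites.EpiMono
import Mathlib.AlgebraicGeometry.Restrict

/-!
# Classes killed on open and étale pieces
-/

set_option autoImplicit false
set_option linter.style.haveILetI false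

universe u

open CategoryTheory CategoryTheory.Limits CategoryTheory.Abelian AlgebraicGeometry Opposite TopologicalSpace
open Groth.Agent.Lib.EtJ Groth.Agent.H61

noncomputable section

namespace Groth.Agent.Lib.SepClosedSplit.OpenMV

variable {Z : Scheme.{u}}

/-- A class dies on an étale piece. -/
def Kills {U : Scheme.{u}} (j : U ⟶ Z) [Etale j] {G : EtCoh.Ab Z} {n : ℕ} (e : EtCoh.H Z G n) : Prop :=
  (Ext.mk₀ (FieldCoh.aug j)).comp e (zero_add n) = 0

theorem Kills.of_hom {U U' : Scheme.{u}} {j : U ⟶ Z} [Etale j] {j' : U' ⟶ Z} [Etale j']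
    (k : FieldCoh.obj j' ⟶ FieldCoh.obj j) {G : EtCoh.Ab Z} {n : ℕ} {e : EtCoh.H Z G n} (h : Kills j e) :
    Kills j' e :=
  FieldCoh.mk₀_aug_comp_eq_zero j j' k h

/-- Morphisms of pieces. -/
def homOf {U U' : Scheme.{u}} (j : U ⟶ Z) [Etale j] (j' : U' ⟶ Z) [Etale j'] (s : U' ⟶ U) (hs : s ≫ j = j') :
    FieldCoh.obj j' ⟶ FieldCoh.obj j :=
  MorphismProperty.Over.homMk s (by
    change s ≫ 𝟙 U ≫ j = 𝟙 U' ≫ j'
    rw [Category.id_comp, Category.id_comp, hs])

/-- Comparison with an object of the site. -/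
def toObj (V : Z.Etale) [Etale V.hom] : FieldCoh.obj V.hom ⟶ V :=
  MorphismProperty.Over.homMk (𝟙 V.left) rfl

/-- Degree one classes die étale locally. -/
theorem exists_nhd_kills_one {F : EtCoh.Ab Z} (e : EtCoh.H Z F 1) (z : Z) :
    ∃ (U : Scheme.{u}) (j : U ⟶ Z) (_ : Etale j) (u : U), j.base u = z ∧ Kills j e := by
  let S : ShortComplex (EtCoh.Ab Z) :=
    ShortComplex.mk (Injective.ι F) (cokernel.π (Injective.ι F)) (cokernel.condition _)
  have hS : S.ShortExact := { exact := ShortComplex.exact_of_g_is_cokernel _ (cokernelIsCokernel _) }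
  haveI : Injective S.X₂ := inferInstanceAs (Injective (Injective.under F))
  haveI : Subsingleton (Ext.{u + 1} (EtCoh.const Z ℤ) S.X₂ 1) :=
    subsingleton_of_forall_eq 0 fun a => Ext.eq_zero_of_injective a
  obtain ⟨x, rfl⟩ := Ext.covariant_sequence_exact₁ (EtCoh.const Z ℤ) hS e (Subsingleton.elim _ _) (zero_add 1)
  obtain ⟨φ, rfl⟩ := (Ext.mk₀_bijective _ _).2 x
  haveI : Epi S.g := hS.epi_g
  haveI : Sheaf.IsLocallySurjective S.g := (Sheaf.isLocallySurjective_iff_epi' _ _).2 inferInstance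
  have hmem : Presheaf.imageSieve S.g.hom (PullSec.elem Z S.X₃ φ) ∈ Z.smallEtaleTopology (EtCoh.top Z) :=
    Presheaf.imageSieve_mem Z.smallEtaleTopology S.g.hom _
  obtain ⟨V, g, ⟨s, hs⟩, v, hv⟩ := (EtSite.Basic.mem_topology_iff _).1 hmem z
  haveI : Etale V.hom := V.prop
  refine ⟨V.left, V.hom, inferInstance, v, ?_, ?_⟩
  · have : g.left ≫ 𝟙 Z = V.hom := MorphismProperty.Over.w g
    rw [← hv, ← this]
    rfl
  have key : FieldCoh.aug V.hom ≫ φ =
      (FieldCoh.ev V.hom S.X₂).symm (S.X₂.obj.map (toObj V).op s) ≫ S.g := by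
    apply (FieldCoh.ev V.hom _).injective
    rw [FieldCoh.ev_aug, FieldCoh.ev_comp, Equiv.apply_symm_apply, NatTrans.naturality_apply]
    refine Eq.trans ?_ (congrArg (S.X₃.obj.map (toObj V).op) hs).symm
    rw [← ConcreteCategory.comp_apply, ← Functor.map_comp, ← op_comp]
    exact congrArg (fun m => S.X₃.obj.map m.op _) ((EtCore.topIsTerminal Z).hom_ext _ _)
  rw [Kills, ← Ext.comp_assoc_of_second_deg_zero, Ext.mk₀_comp_mk₀, key, ← Ext.mk₀_comp_mk₀,
    Ext.comp_assoc_of_second_deg_zero, hS.comp_extClass, Ext.comp_zero]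

/-- Classes of positive degree die étale locally. -/
theorem exists_nhd_kills (n : ℕ) : ∀ {F : EtCoh.Ab Z} (e : EtCoh.H Z F (n + 1)) (z : Z),
    ∃ (U : Scheme.{u}) (j : U ⟶ Z) (_ : Etale j) (u : U), j.base u = z ∧ Kills j e := by
  induction n with
  | zero => exact fun e z => exists_nhd_kills_one e z
  | succ n ih =>
    intro F e z
    let S : ShortComplex (EtCoh.Ab Z) :=
      ShortComplex.mk (Injective.ι F) (cokernel.π (Injective.ι F)) (cokernel.condition _)
    have hS : S.ShortExact := { exact := ShortComplex.exact_of_g_is_cokernel _ (cokernelIsCokernel _) }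
    haveI : Injective S.X₂ := inferInstanceAs (Injective (Injective.under F))
    obtain ⟨x, rfl⟩ := Ext.covariant_sequence_exact₁ (EtCoh.const Z ℤ) hS e (Ext.eq_zero_of_injective _)
      (n₀ := n + 1) rfl
    obtain ⟨U, j, hj, u, hu, hk⟩ := ih x z
    refine ⟨U, j, hj, u, hu, ?_⟩
    rw [Kills, ← Ext.comp_assoc (Ext.mk₀ (FieldCoh.aug j)) x hS.extClass (zero_add _) rfl (by omega),
      show (Ext.mk₀ (FieldCoh.aug j)).comp x (zero_add (n + 1)) = 0 from hk, Ext.zero_comp]

theorem subsingleton_hom {U : Scheme.{u}} (j : U ⟶ Z) [Etale j] [Mono j] (T : Z.Etale) :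
    Subsingleton (T ⟶ FieldCoh.obj j) := by
  refine ⟨fun a b => MorphismProperty.Over.Hom.ext ((cancel_mono (𝟙 U ≫ j)).1 ?_)⟩
  exact (MorphismProperty.Over.w a).trans (MorphismProperty.Over.w b).symm

/-- Inclusions of opens as morphisms of pieces. -/
def le' {A B : Z.Opens} (h : A ≤ B) : FieldCoh.obj A.ι ⟶ FieldCoh.obj B.ι :=
  homOf B.ι A.ι (Z.homOfLE h) (Z.homOfLE_ι h)

theorem Kills.of_le {A B : Z.Opens} (h : A ≤ B) {G : EtCoh.Ab Z} {n : ℕ} {e : EtCoh.H Z G n}
    (he : Kills B.ι e) : Kills A.ι e :=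
  he.of_hom (le' h)

/-- A class dying on the whole space is zero. -/
theorem eq_zero_of_kills_top {G : EtCoh.Ab Z} {n : ℕ} {e : EtCoh.H Z G n}
    (h : Kills (⊤ : Z.Opens).ι e) : e = 0 := by
  let j := (⊤ : Z.Opens).ι
  let t : FieldCoh.obj j ⟶ EtCoh.top Z := (EtCore.topIsTerminal Z).from _
  let t' : EtCoh.top Z ⟶ FieldCoh.obj j :=
    MorphismProperty.Over.homMk Z.topIso.inv (by
      change Z.topIso.inv ≫ 𝟙 _ ≫ j = 𝟙 Z
      simp [j])
  let r : EtCoh.const Z ℤ ⟶ FieldCoh.free j :=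
    (PullSec.elem Z _).symm ((FieldCoh.free j).obj.map t'.op (FieldCoh.ev j _ (𝟙 _)))
  have hr : r ≫ FieldCoh.aug j = 𝟙 _ := by
    apply (PullSec.elem Z _).injective
    rw [PullSec.elem_comp, AddEquiv.apply_symm_apply, NatTrans.naturality_apply, ← FieldCoh.ev_comp,
      Category.id_comp]
    conv_lhs => rw [← Category.comp_id (FieldCoh.aug j), FieldCoh.ev_aug]
    rw [← ConcreteCategory.comp_apply, ← Functor.map_comp, ← op_comp,
      (EtCore.topIsTerminal Z).hom_ext (t' ≫ (EtCore.topIsTerminal Z).from (FieldCoh.obj j)) (𝟙 _),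
      op_id, CategoryTheory.Functor.map_id]
    rfl
  rw [← Ext.mk₀_id_comp e, ← hr, ← Ext.mk₀_comp_mk₀, Ext.comp_assoc_of_second_deg_zero]
  rw [show (Ext.mk₀ (FieldCoh.aug j)).comp e (zero_add n) = 0 from h, Ext.comp_zero]

/-- The free sheaf on an empty piece vanishes. -/
theorem isZero_free {U : Scheme.{u}} [IsEmpty U] (j : U ⟶ Z) [Etale j] : IsZero (FieldCoh.free j) := by
  rw [IsZero.iff_id_eq_zero]
  apply (FieldCoh.ev j _).injective
  have hs : ∀ a b : EtCoh.sect (FieldCoh.free j) (FieldCoh.obj j), a = b := fun a b => by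
    have hc : (⊥ : Sieve (FieldCoh.obj j)) ∈ Z.smallEtaleTopology (FieldCoh.obj j) :=
      (EtSite.Basic.mem_topology_iff _).2 fun x => (IsEmpty.false (α := U) x).elim
    exact (((isSheaf_iff_isSheaf_of_type _ _).1
      ((sheafCompose Z.smallEtaleTopology (forget AddCommGrpCat.{u + 1})).obj
        (FieldCoh.free j)).property) _ hc).isSeparatedFor.ext fun _ _ hf => hf.elim
  exact hs _ _

section Square

variable (A B P C : Z.Opens) (hA : A ≤ P) (hB : B ≤ P) (hP : P ≤ A ⊔ B) (hCA : C ≤ A) (hCB : C ≤ B)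
  (hC : A ⊓ B ≤ C)

/-- `free C ⟶ free A`. -/
abbrev resLE {A B : Z.Opens} (h : A ≤ B) : FieldCoh.free A.ι ⟶ FieldCoh.free B.ι :=
  FieldCoh.res B.ι A.ι (le' h)

theorem res_res : resLE hCA ≫ resLE hA = resLE hCB ≫ resLE hB := by
  apply (FieldCoh.ev C.ι _).injective
  rw [← Category.comp_id (resLE hA), ← Category.comp_id (resLE hB), FieldCoh.ev_res, FieldCoh.ev_res,
    FieldCoh.ev_res, FieldCoh.ev_res, ← ConcreteCategory.comp_apply, ← ConcreteCategory.comp_apply,
    ← Functor.map_comp, ← Functor.map_comp, ← op_comp, ← op_comp]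
  exact congrArg (fun m => (FieldCoh.free P.ι).obj.map (Quiver.Hom.op m) _)
    ((subsingleton_hom P.ι _).elim _ _)

include hA hB hP hCA hCB hC in
theorem glue (G : EtCoh.Ab Z) (a : EtCoh.sect G (FieldCoh.obj A.ι)) (b : EtCoh.sect G (FieldCoh.obj B.ι))
    (hab : G.obj.map (le' hCA).op a = G.obj.map (le' hCB).op b) :
    ∃! c : EtCoh.sect G (FieldCoh.obj P.ι), G.obj.map (le' hA).op c = a ∧ G.obj.map (le' hB).op c = b := by
  let T₀ : Bool → Z.Etale := fun t => cond t (FieldCoh.obj A.ι) (FieldCoh.obj B.ι)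
  let π : ∀ t, T₀ t ⟶ FieldCoh.obj P.ι := fun t => match t with
    | true => le' hA
    | false => le' hB
  have hc : Sieve.ofArrows T₀ π ∈ Z.smallEtaleTopology (FieldCoh.obj P.ι) := by
    refine EtSite.Basic.ofArrows_mem T₀ π fun x => ?_
    let x' : (P : Scheme.{u}) := x
    have hx : x'.1 ∈ A ⊔ B := hP x'.2
    rcases Opens.mem_sup.1 hx with h | h
    · exact ⟨true, ⟨_, h⟩, Subtype.ext (Scheme.homOfLE_apply hA ⟨_, h⟩)⟩
    · exact ⟨false, ⟨_, h⟩, Subtype.ext (Scheme.homOfLE_apply hB ⟨_, h⟩)⟩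
  have hG : Presieve.IsSheaf Z.smallEtaleTopology (G.obj ⋙ forget AddCommGrpCat.{u + 1}) :=
    (isSheaf_iff_isSheaf_of_type _ _).1
      ((sheafCompose Z.smallEtaleTopology (forget AddCommGrpCat.{u + 1})).obj G).property
  have hsf := hG _ hc
  rw [Sieve.ofArrows, ← Presieve.isSheafFor_iff_generate, Presieve.isSheafFor_arrows_iff] at hsf
  have cross : ∀ (T : Z.Etale) (p : T ⟶ FieldCoh.obj A.ι) (q : T ⟶ FieldCoh.obj B.ι),
      G.obj.map p.op a = G.obj.map q.op b := by
    intro T p q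
    have hr : Set.range T.hom.base ⊆ Set.range C.ι.base := by
      rintro _ ⟨v, rfl⟩
      rw [Scheme.Opens.range_ι]
      refine hC ⟨?_, ?_⟩
      · rw [← MorphismProperty.Over.w p]
        exact (show (A : Scheme.{u}) from p.left.base v).2
      · rw [← MorphismProperty.Over.w q]
        exact (show (B : Scheme.{u}) from q.left.base v).2
    haveI hoi : IsOpenImmersion (Scheme.Opens.ι C) := inferInstance
    let Th : T.left ⟶ Z := T.hom
    let l : T.left ⟶ (C : Scheme.{u}) := @IsOpenImmersion.lift _ _ _ C.ι Th hoi hr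
    have hl : l ≫ C.ι = Th := @IsOpenImmersion.lift_fac _ _ _ C.ι Th hoi hr
    let r : T ⟶ FieldCoh.obj C.ι := MorphismProperty.Over.homMk l (by
      change l ≫ 𝟙 _ ≫ C.ι = Th
      rw [Category.id_comp, hl])
    have h₁ : p = r ≫ le' hCA := (subsingleton_hom A.ι T).elim _ _
    have h₂ : q = r ≫ le' hCB := (subsingleton_hom B.ι T).elim _ _
    rw [h₁, h₂, op_comp, op_comp, Functor.map_comp, Functor.map_comp, ConcreteCategory.comp_apply,
      ConcreteCategory.comp_apply, hab]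
  let s : ∀ t, (G.obj ⋙ forget AddCommGrpCat.{u + 1}).obj (op (T₀ t)) := fun t =>
    match t with
    | true => a
    | false => b
  have hs : Presieve.Arrows.Compatible _ π s := by
    intro i k T gi gk _
    cases i <;> cases k
    · obtain rfl : gi = gk := (subsingleton_hom B.ι T).elim _ _
      rfl
    · exact (cross T gk gi).symm
    · exact cross T gi gk
    · obtain rfl : gi = gk := (subsingleton_hom A.ι T).elim _ _
      rfl
  obtain ⟨c, hc₁, hc₂⟩ := hsf s hs
  refine ⟨c, ⟨hc₁ true, hc₁ false⟩, fun c' hc' => hc₂ c' fun t => ?_⟩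
  cases t
  · exact hc'.2
  · exact hc'.1

include hP hC in
theorem shortExact : (MVAlg.complex (resLE hCA) (resLE hCB) (resLE hA) (resLE hB)
    (res_res A B P C hA hB hCA hCB)).ShortExact := by
  have key : ∀ {G : EtCoh.Ab Z} (a : FieldCoh.free A.ι ⟶ G) (b : FieldCoh.free B.ι ⟶ G),
      resLE hCA ≫ a = resLE hCB ≫ b →
      ∃! φ : FieldCoh.free P.ι ⟶ G, resLE hA ≫ φ = a ∧ resLE hB ≫ φ = b := by
    intro G a b h
    have hab := congrArg (FieldCoh.ev C.ι G) h
    rw [FieldCoh.ev_res, FieldCoh.ev_res] at hab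
    obtain ⟨c, hc, hu⟩ := glue A B P C hA hB hP hCA hCB hC G _ _ hab
    refine ⟨(FieldCoh.ev P.ι G).symm c, ⟨(FieldCoh.ev A.ι G).injective ?_, (FieldCoh.ev B.ι G).injective ?_⟩, ?_⟩
    · rw [FieldCoh.ev_res, Equiv.apply_symm_apply]; exact hc.1
    · rw [FieldCoh.ev_res, Equiv.apply_symm_apply]; exact hc.2
    · intro φ hφ
      apply (FieldCoh.ev P.ι G).injective
      rw [Equiv.apply_symm_apply]
      exact hu _ ⟨(FieldCoh.ev_res P.ι A.ι (le' hA) φ).symm.trans (congrArg _ hφ.1),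
        (FieldCoh.ev_res P.ι B.ι (le' hB) φ).symm.trans (congrArg _ hφ.2)⟩
  let S := MVAlg.complex (resLE hCA) (resLE hCB) (resLE hA) (resLE hB) (res_res A B P C hA hB hCA hCB)
  have comp_zero : ∀ {G : EtCoh.Ab Z} (k : FieldCoh.free A.ι ⊞ FieldCoh.free B.ι ⟶ G), S.f ≫ k = 0 →
      resLE hCA ≫ biprod.inl ≫ k = resLE hCB ≫ biprod.inr ≫ k := by
    intro G k hk
    have h0 : biprod.lift (resLE hCA) (-resLE hCB) =
        resLE hCA ≫ biprod.inl - resLE hCB ≫ biprod.inr := by
      apply biprod.hom_ext <;> simp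
    have hk' : biprod.lift (resLE hCA) (-resLE hCB) ≫ k = 0 := hk
    rw [h0, Preadditive.sub_comp, sub_eq_zero, Category.assoc, Category.assoc] at hk'
    exact hk'
  have hg : ∀ {G : EtCoh.Ab Z} (φ : FieldCoh.free P.ι ⟶ G),
      biprod.inl ≫ S.g ≫ φ = resLE hA ≫ φ ∧ biprod.inr ≫ S.g ≫ φ = resLE hB ≫ φ := fun φ => by
    simp [S]
  have hepi : Epi S.g := by
    constructor
    intro G φ ψ h
    have h0 : S.f ≫ S.g ≫ φ = 0 := by rw [← Category.assoc, S.zero, zero_comp]
    refine (key _ _ (comp_zero _ h0)).unique ⟨(hg φ).1.symm, (hg φ).2.symm⟩ ?_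
    rw [h]
    exact ⟨(hg ψ).1.symm, (hg ψ).2.symm⟩
  refine { exact := S.exact_of_g_is_cokernel ?_, mono_f := ?_, epi_g := hepi }
  · refine CokernelCofork.IsColimit.ofπ _ _
      (fun k hk => (key _ _ (comp_zero k hk)).exists.choose) (fun k hk => ?_)
      (fun k hk m hm => ?_)
    · obtain ⟨h₁, h₂⟩ := (key _ _ (comp_zero k hk)).exists.choose_spec
      apply biprod.hom_ext'
      · exact ((hg _).1).trans h₁
      · exact ((hg _).2).trans h₂
    · refine (key _ _ (comp_zero k hk)).unique ?_ (key _ _ (comp_zero k hk)).exists.choose_spec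
      rw [← hm]
      exact ⟨(hg m).1.symm, (hg m).2.symm⟩
  · obtain ⟨R⟩ := EnoughInjectives.presentation (FieldCoh.free C.ι)
    have : Injective R.J := R.injective
    have : Mono (le' hCA) := ⟨fun a b _ => (subsingleton_hom C.ι _).elim a b⟩
    obtain ⟨s, hs⟩ := Double.map_surjective_of_injective R.J (le' hCA) (FieldCoh.ev C.ι R.J R.f)
    have ha : resLE hCA ≫ (FieldCoh.ev A.ι R.J).symm s = R.f := by
      apply (FieldCoh.ev C.ι R.J).injective
      rw [FieldCoh.ev_res, Equiv.apply_symm_apply, hs]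
    have hf : S.f ≫ biprod.desc ((FieldCoh.ev A.ι R.J).symm s) 0 = R.f := by
      simp [S, biprod.lift_desc, ha]
    exact mono_of_mono_fac hf

include hA hB hP hCA hCB hC in
/-- Classes dying on two opens die on their union. -/
theorem Kills.sup {G : EtCoh.Ab Z} {n : ℕ} {e : EtCoh.H Z G (n + 1)}
    (hC0 : Subsingleton (Ext.{u + 1} (FieldCoh.free C.ι) G n)) (ha : Kills A.ι e) (hb : Kills B.ι e) :
    Kills P.ι e := by
  have hS := shortExact A B P C hA hB hP hCA hCB hC
  let S := MVAlg.complex (resLE hCA) (resLE hCB) (resLE hA) (resLE hB) (res_res A B P C hA hB hCA hCB)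
  let eP := (Ext.mk₀ (FieldCoh.aug P.ι)).comp e (zero_add (n + 1))
  have hl : (Ext.mk₀ S.g).comp eP (zero_add (n + 1)) = 0 := by
    have h1 : (Ext.mk₀ (resLE hA)).comp eP (zero_add (n + 1)) = 0 := by
      rw [← Ext.comp_assoc_of_second_deg_zero, Ext.mk₀_comp_mk₀, FieldCoh.res_aug]
      exact ha
    have h2 : (Ext.mk₀ (resLE hB)).comp eP (zero_add (n + 1)) = 0 := by
      rw [← Ext.comp_assoc_of_second_deg_zero, Ext.mk₀_comp_mk₀, FieldCoh.res_aug]
      exact hb
    have hg : S.g = biprod.fst ≫ resLE hA + biprod.snd ≫ resLE hB := by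
      apply biprod.hom_ext' <;> simp [S]
    rw [hg, Ext.mk₀_add, Ext.add_comp, ← Ext.mk₀_comp_mk₀, ← Ext.mk₀_comp_mk₀,
      Ext.comp_assoc_of_second_deg_zero, Ext.comp_assoc_of_second_deg_zero, h1, h2, Ext.comp_zero,
      Ext.comp_zero, add_zero]
  obtain ⟨y, hy⟩ := Ext.contravariant_sequence_exact₃ hS G eP hl (n₀ := n) (add_comm 1 n)
  rw [Subsingleton.elim y 0, Ext.comp_zero] at hy
  exact hy.symm

end Square

end Groth.Agent.Lib.SepClosedSplit.OpenMV
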